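import Mathlib
import Groth.Prelude.Def_MoreMor
import Groth.Prelude.Def_Coh
import Groth.Prelude.Def_CohB1

/-!
# The locus where all relative associated points lie in an open (helper29, S1370)
-/

set_option autoImplicit false
universe u

open AlgebraicGeometry CategoryTheory

namespace Groth.Agent.H29.RAU

/-- The set of points `y` of the base such that every relative associated point of `F` over `y`
lies in `U`. -/
def EU {X S : Scheme.{u}} (f : X ⟶ S) (F : X.Modules) (U : X.Opens) : Set S :=
  {y | ∀ x ∈ MoreMor.relAss f F, f x = y → x ∈ U}

end Groth.Agent.H29.RAU
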