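import Mathlib
import Groth.Agent.H29.RAU.Defs
import Groth.Agent.H9.NE_CHART

/-!
# (CHARTU) for S1370 (helper29): the locus `EU` is local on the source
-/

set_option autoImplicit false
set_option linter.style.haveILetI false
universe u

open AlgebraicGeometry CategoryTheory Limits TopologicalSpace

namespace Groth.Agent.H29.RAU

/-- (CHARTU) -/
theorem eu_eq_iInter_of_iSup_eq_top {X S : Scheme.{u}} (f : X ⟶ S) [LocallyOfFiniteType f]
    (F : X.Modules) [F.IsQuasicoherent] (U : X.Opens) {ι : Type*} (W : ι → X.Opens)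
    (hW : ⨆ i, W i = ⊤) :
    EU f F U = ⋂ i, EU ((W i).ι ≫ f) ((Scheme.Modules.pullback (W i).ι).obj F)
      ((W i).ι ⁻¹ᵁ U) := by
  ext s
  rw [Set.mem_iInter]
  constructor
  · intro hs i y hy hfy
    have h1 := (Groth.Agent.H9.NEChart.mem_relAss_opens_iff f F (W i) y).1 hy
    exact hs ((W i).ι y) h1 hfy
  · intro hs x hx hfx
    have hxtop : x ∈ (⨆ i, W i : X.Opens) := by rw [hW]; trivial
    obtain ⟨i, hi⟩ := Opens.mem_iSup.1 hxtop
    have h1 := (Groth.Agent.H9.NEChart.mem_relAss_opens_iff f F (W i) ⟨x, hi⟩).2 hx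
    exact hs i ⟨x, hi⟩ h1 hfx

end Groth.Agent.H29.RAU
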