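import Mathlib
import Groth.Agent.H29.RAU.Defs
import Groth.Agent.S1368
import Groth.Agent.S1369

/-!
# (POSU) and (NEGU) for S1370 (helper29): corollaries of S1368 / S1369
-/

set_option autoImplicit false
set_option linter.style.haveILetI false
universe u

open AlgebraicGeometry CategoryTheory Limits TopologicalSpace

namespace Groth.Agent.H29.RAU

/-- (POSU) -/
theorem pos_generic_open {X S : Scheme.{u}} [IsIntegral S] [IsNoetherian S]
    (f : X ⟶ S) [LocallyOfFiniteType f] [QuasiCompact f]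
    (F : X.Modules) (hF : Coh.IsCoh F) (U : X.Opens) (hη : genericPoint S ∈ EU f F U) :
    ∃ V : S.Opens, genericPoint S ∈ V ∧ ∀ s ∈ V, s ∈ EU f F U := by
  obtain ⟨V, hVne, hV⟩ := Groth.Agent.S1368.result f F hF U (fun x hx hfx => hη x hx hfx)
  refine ⟨V, ?_, fun s hs x hx hfx => hV x hx (by rw [hfx]; exact hs)⟩
  exact ((genericPoint_spec S).mem_open_set_iff V.isOpen).mpr (by
    obtain ⟨y, hy⟩ := hVne
    exact ⟨y, Set.mem_univ y, hy⟩)

/-- (NEGU) -/
theorem neg_generic_open {X S : Scheme.{u}} [IsIntegral S] [IsNoetherian S]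
    (f : X ⟶ S) [LocallyOfFiniteType f] [QuasiCompact f]
    (F : X.Modules) (hF : Coh.IsCoh F) (U : X.Opens) (hη : genericPoint S ∉ EU f F U) :
    ∃ V : S.Opens, genericPoint S ∈ V ∧ ∀ s ∈ V, s ∉ EU f F U := by
  have h : ∃ x ∈ MoreMor.relAss f F, f x = genericPoint S ∧ x ∉ U := by
    by_contra hcon
    apply hη
    intro x hx hfx
    by_contra hxU
    exact hcon ⟨x, hx, hfx, hxU⟩
  obtain ⟨V, hVne, hV⟩ := Groth.Agent.S1369.result f F hF U h
  refine ⟨V, ?_, fun s hs hsE => ?_⟩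
  · exact ((genericPoint_spec S).mem_open_set_iff V.isOpen).mpr (by
      obtain ⟨y, hy⟩ := hVne
      exact ⟨y, Set.mem_univ y, hy⟩)
  · obtain ⟨x, hx, hfx, hxU⟩ := hV s hs
    exact hxU (hsE x hx hfx)

end Groth.Agent.H29.RAU
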