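import Mathlib
import Groth.Agent.H29.RAU.Defs
import Groth.Agent.H57.NoEmb.Iso

/-!
# (ISOU) for S1370 (helper29): `relAss` is invariant under isomorphisms of modules
-/

set_option autoImplicit false
set_option linter.style.haveILetI false
universe u

open AlgebraicGeometry CategoryTheory Limits TopologicalSpace

namespace Groth.Agent.H29.RAU

theorem relAss_eq_of_iso {X S : Scheme.{u}} (f : X ⟶ S) {F F' : X.Modules} (e : F ≅ F') :
    MoreMor.relAss f F = MoreMor.relAss f F' := by
  ext x
  show IsAssociatedPrime _ _ ↔ IsAssociatedPrime _ _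
  set I := Ideal.map (f.stalkMap x).hom (IsLocalRing.maximalIdeal (S.presheaf.stalk (f x)))
  let ex : (F.presheaf.stalk x) ≃ₗ[X.presheaf.stalk x] (F'.presheaf.stalk x) :=
    LinearEquiv.ofBijective (Groth.Agent.H17.StalkSeq.stalkMapₗ e.hom x)
      (Groth.Agent.H17.ReflSheaf.stalkMap_bijective_of_isIso e.hom x)
  have hmap : (I • (⊤ : Submodule (X.presheaf.stalk x) (F.presheaf.stalk x))).map
      (ex : (F.presheaf.stalk x) →ₗ[X.presheaf.stalk x] (F'.presheaf.stalk x)) =
      I • (⊤ : Submodule (X.presheaf.stalk x) (F'.presheaf.stalk x)) := by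
    rw [Submodule.map_smul'', Submodule.map_top, LinearMap.range_eq_top.mpr ex.surjective]
  exact LinearEquiv.isAssociatedPrime_iff (Submodule.Quotient.equiv _ _ ex hmap)

/-- (ISOU) -/
theorem eu_congr_iso {X S : Scheme.{u}} (f : X ⟶ S) {F F' : X.Modules} (e : F ≅ F') (U : X.Opens) :
    EU f F U = EU f F' U := by
  unfold EU
  rw [relAss_eq_of_iso f e]

end Groth.Agent.H29.RAU
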