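import Mathlib
import Groth.Agent.H29.RAU.Generic
import Groth.Agent.H29.RAU.Chart
import Groth.Agent.H29.RAU.IsoU
import Groth.Agent.H26.RAU_BCU
import Groth.Agent.H4.RAU_QCU
import Groth.Agent.H48.RAU_MODELU
import Groth.Agent.H57.NoEmb.LcPre
import Groth.Agent.H24.ConsLocus
import Groth.Agent.H42.FPKernel
import Groth.Agent.H8.PullbackFinType

/-! Assembly for S1370 (helper29): local constructibility of the locus `EU`. -/

set_option autoImplicit false
set_option linter.style.haveILetI false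
universe u

open AlgebraicGeometry CategoryTheory Limits TopologicalSpace

namespace Groth.Agent.H29.RAU

theorem isCoh_pullback {X X' : Scheme.{u}} (g : X' ⟶ X) (F : X.Modules) (hF : Coh.IsCoh F) :
    Coh.IsCoh ((Scheme.Modules.pullback g).obj F) := by
  haveI : F.IsQuasicoherent := hF.1
  haveI : SheafOfModules.IsFiniteType (R := X.ringCatSheaf) F := hF.2
  exact ⟨Groth.Agent.H8.isQuasicoherent_pullback _ F, Groth.Agent.H8.isFiniteType_pullback _ F⟩

/-- Noetherian base. -/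
theorem noeth_case {X₀ S₀ : Scheme.{u}} [IsNoetherian S₀] (f₀ : X₀ ⟶ S₀)
    [LocallyOfFiniteType f₀] [QuasiCompact f₀] (F₀ : X₀.Modules) (hF₀ : Coh.IsCoh F₀)
    (U₀ : X₀.Opens) :
    Topology.IsLocallyConstructible (EU f₀ F₀ U₀) := by
  haveI : F₀.IsQuasicoherent := hF₀.1
  have hpre : ∀ (Z : Scheme.{u}) (i : Z ⟶ S₀),
      EU (pullback.snd f₀ i) ((Scheme.Modules.pullback (pullback.fst f₀ i)).obj F₀)
        (pullback.fst f₀ i ⁻¹ᵁ U₀) = i ⁻¹' EU f₀ F₀ U₀ := fun Z i =>
    Groth.Agent.H26.RAU_BCU.eu_preimage f₀ F₀ U₀ i (pullback.snd f₀ i) (pullback.fst f₀ i)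
      (IsPullback.of_hasPullback f₀ i)
  rw [Groth.Agent.S3402.result]
  refine ⟨?_, ?_⟩
  · apply Groth.Agent.H24.isIndConstructible_of_forall_integral
    intro Z i _ _ _ hgen
    rw [← hpre Z i]
    obtain ⟨V, hηV, hV⟩ := pos_generic_open (pullback.snd f₀ i)
      ((Scheme.Modules.pullback (pullback.fst f₀ i)).obj F₀)
      (isCoh_pullback _ F₀ hF₀) (pullback.fst f₀ i ⁻¹ᵁ U₀)
      (by rw [hpre Z i]; exact hgen)
    exact ⟨genericPoint Z, mem_interior.mpr ⟨V, fun s hs => hV s hs, V.isOpen, hηV⟩⟩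
  · rw [Groth.Agent.H17.isProConstructible_iff_compl]
    apply Groth.Agent.H24.isIndConstructible_of_forall_integral
    intro Z i _ _ _ hgen
    have e : i ⁻¹' (EU f₀ F₀ U₀)ᶜ =
        (EU (pullback.snd f₀ i) ((Scheme.Modules.pullback (pullback.fst f₀ i)).obj F₀)
          (pullback.fst f₀ i ⁻¹ᵁ U₀))ᶜ := by
      rw [hpre Z i]; rfl
    rw [e]
    obtain ⟨V, hηV, hV⟩ := neg_generic_open (pullback.snd f₀ i)
      ((Scheme.Modules.pullback (pullback.fst f₀ i)).obj F₀)
      (isCoh_pullback _ F₀ hF₀) (pullback.fst f₀ i ⁻¹ᵁ U₀)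
      (by rw [hpre Z i]; exact hgen)
    exact ⟨genericPoint Z, mem_interior.mpr ⟨V, fun s hs => hV s hs, V.isOpen, hηV⟩⟩

/-- Affine source and base. -/
theorem affine_case {X S : Scheme.{u}} [IsAffine X] [IsAffine S] (f : X ⟶ S)
    [LocallyOfFinitePresentation f] (F : X.Modules) [F.IsQuasicoherent] (hF : CohB1.IsFP F)
    (U : X.Opens) (hU : IsCompact (U : Set X)) :
    Topology.IsLocallyConstructible (EU f F U) := by
  obtain ⟨S₀, X₀, h, f₀, eX, F₀, U₀, hN, hft, hqc, sq, hcoh, ⟨e⟩, hUU⟩ :=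
    Groth.Agent.H48.RAU_MODELU.exists_noetherian_model_affine_open f F hF U hU
  haveI := hN
  haveI := hft
  haveI := hqc
  haveI : F₀.IsQuasicoherent := hcoh.1
  rw [eu_congr_iso f e U, ← hUU, Groth.Agent.H26.RAU_BCU.eu_preimage f₀ F₀ U₀ h f eX sq]
  exact Groth.Agent.H57.NoEmb.LcPre.isLocallyConstructible_preimage h _ (noeth_case f₀ F₀ hcoh U₀)

/-- Affine base. -/
theorem qc_case {X S : Scheme.{u}} [IsAffine S] (f : X ⟶ S)
    [LocallyOfFinitePresentation f] [QuasiCompact f] [QuasiSeparated f] (F : X.Modules)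
    [F.IsQuasicoherent] (hF : CohB1.IsFP F) (U : X.Opens) (hU : IsCompact (U : Set X)) :
    Topology.IsLocallyConstructible (EU f F U) := by
  have hcpt : IsCompact ((f ⁻¹ᵁ (⊤ : S.Opens) : X.Opens) : Set X) :=
    f.isCompact_preimage (isAffineOpen_top S).isCompact
  obtain ⟨c, hcfin, hc⟩ := isCompact_iff_finite_and_eq_biUnion_affineOpens.mp hcpt
  haveI : Finite c := hcfin
  have hW : ⨆ i : c, ((i.1 : X.affineOpens) : X.Opens) = ⊤ := by
    have h2 : (f ⁻¹ᵁ (⊤ : S.Opens) : X.Opens) = ⊤ := rfl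
    rw [← h2, hc, iSup_subtype]
  haveI : QuasiSeparatedSpace X := quasiSeparatedSpace_of_quasiSeparated f
  rw [eu_eq_iInter_of_iSup_eq_top f F U (fun i : c => ((i.1 : X.affineOpens) : X.Opens)) hW]
  apply Topology.IsLocallyConstructible.iInter
  intro i
  haveI : IsAffine ((i.1 : X.affineOpens) : X.Opens).toScheme := i.1.2
  haveI : ((Scheme.Modules.pullback ((i.1 : X.affineOpens) : X.Opens).ι).obj F).IsQuasicoherent :=
    Groth.Agent.H8.isQuasicoherent_pullback _ F
  refine affine_case _ _ (Groth.Agent.H42.FPKernel.isFP_pullback _ F hF) _ ?_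
  -- compactness of `U ∩ W` inside `W`
  have hWU : IsCompact ((((i.1 : X.affineOpens) : X.Opens) : Set X) ∩ (U : Set X)) :=
    QuasiSeparatedSpace.inter_isCompact _ _ ((i.1 : X.affineOpens) : X.Opens).isOpen
      i.1.2.isCompact U.isOpen hU
  have hemb := ((i.1 : X.affineOpens) : X.Opens).ι.isOpenEmbedding
  rw [hemb.isInducing.isCompact_iff]
  have himg : ((i.1 : X.affineOpens) : X.Opens).ι ''
      (((((i.1 : X.affineOpens) : X.Opens).ι ⁻¹ᵁ U : _) : Set _)) =
      (((i.1 : X.affineOpens) : X.Opens) : Set X) ∩ (U : Set X) := by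
    ext x
    constructor
    · rintro ⟨y, hy, rfl⟩
      exact ⟨y.2, hy⟩
    · rintro ⟨hx1, hx2⟩
      exact ⟨⟨x, hx1⟩, hx2, rfl⟩
  rw [himg]
  exact hWU

/-- S1370 in `EU` form. -/
theorem main {X S : Scheme.{u}} (f : X ⟶ S)
    [LocallyOfFinitePresentation f] [QuasiCompact f] [QuasiSeparated f]
    (F : X.Modules) [F.IsQuasicoherent] (hF : CohB1.IsFP F) (U : X.Opens)
    [QuasiCompact (U.ι ≫ f)] :
    Topology.IsLocallyConstructible (EU f F U) := by
  apply Topology.IsLocallyConstructible.of_isOpenCover (U := fun V : S.affineOpens => (V : S.Opens))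
    (iSup_affineOpens_eq_top S)
  intro V
  haveI : IsAffine (V : S.Opens).toScheme := V.2
  haveI : ((Scheme.Modules.pullback (pullback.fst f (V : S.Opens).ι)).obj F).IsQuasicoherent :=
    Groth.Agent.H8.isQuasicoherent_pullback _ F
  have sq := IsPullback.of_hasPullback f (V : S.Opens).ι
  have h1 := Groth.Agent.H26.RAU_BCU.eu_preimage f F U (V : S.Opens).ι (pullback.snd f (V : S.Opens).ι)
    (pullback.fst f (V : S.Opens).ι) sq
  have h2 := qc_case (pullback.snd f (V : S.Opens).ι)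
    ((Scheme.Modules.pullback (pullback.fst f (V : S.Opens).ι)).obj F)
    (Groth.Agent.H42.FPKernel.isFP_pullback _ F hF) (pullback.fst f (V : S.Opens).ι ⁻¹ᵁ U)
    (Groth.Agent.H4.RAU_QCU.isCompact_preimage_of_isPullback f U (V : S.Opens).ι (pullback.snd f (V : S.Opens).ι)
      (pullback.fst f (V : S.Opens).ι) sq)
  rw [h1] at h2
  exact h2

end Groth.Agent.H29.RAU
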